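import Mathlib

/-!
# Embeddings of alternating groups and some explicit elements (for S5926)
-/

set_option autoImplicit false

namespace Cfsg.Agent.H177.F4

open Equiv

/-- the first `m` points -/
def fst {m n : ℕ} (h : m ≤ n) : Fin m ≃ {i : Fin n // (i : ℕ) < m} where
  toFun i := ⟨Fin.castLE h i, i.2⟩
  invFun i := ⟨i.1, i.2⟩
  left_inv i := by ext; rfl
  right_inv i := by ext; rfl

/-- Every element of `A_n` with the cycle type of an element `g₀` of `A_m` (or of `S_m`) is the image of `g₀` under an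
embedding preserving the cycle types. -/
theorem exists_perm_emb {m n : ℕ} (hmn : m ≤ n) (g₀ : Perm (Fin m)) (x : Perm (Fin n))
    (h : x.cycleType = g₀.cycleType) : ∃ ι : Perm (Fin m) →* Perm (Fin n),
      Function.Injective ι ∧ ι g₀ = x ∧ ∀ g, (ι g).cycleType = g.cycleType ∧ Perm.sign (ι g) = Perm.sign g := by
  have h1 : IsConj (Perm.extendDomainHom (fst hmn) g₀) x := by
    rw [Perm.isConj_iff_cycleType_eq, Perm.extendDomainHom_apply, Perm.cycleType_extendDomain, h]
  obtain ⟨τ, hτ⟩ := isConj_iff.1 h1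
  refine ⟨(MulAut.conj τ).toMonoidHom.comp (Perm.extendDomainHom (fst hmn)), ?_, ?_, ?_⟩
  · exact (MulAut.conj τ).injective.comp (Perm.extendDomainHom_injective _)
  · show τ * _ * τ⁻¹ = x
    rw [hτ]
  · intro g
    constructor
    · show (τ * _ * τ⁻¹).cycleType = _
      rw [Perm.cycleType_conj, Perm.extendDomainHom_apply, Perm.cycleType_extendDomain]
    · show Perm.sign (τ * _ * τ⁻¹) = _
      rw [Perm.sign_mul, Perm.sign_mul, Perm.sign_inv, mul_right_comm, Int.units_mul_self, one_mul,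
        Perm.extendDomainHom_apply, Perm.sign_extendDomain]

theorem exists_emb {m n : ℕ} (hmn : m ≤ n) (g₀ : ↥(alternatingGroup (Fin m))) (x : ↥(alternatingGroup (Fin n)))
    (h : (x : Perm (Fin n)).cycleType = (g₀ : Perm (Fin m)).cycleType) :
    ∃ ι : ↥(alternatingGroup (Fin m)) →* ↥(alternatingGroup (Fin n)), Function.Injective ι ∧ ι g₀ = x := by
  obtain ⟨ι, hι, hx, hs⟩ := exists_perm_emb hmn (g₀ : Perm (Fin m)) (x : Perm (Fin n)) h
  have hmem : ∀ g : ↥(alternatingGroup (Fin m)), ι g ∈ alternatingGroup (Fin n) := by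
    intro g
    rw [Perm.mem_alternatingGroup, (hs g).2]
    exact Perm.mem_alternatingGroup.1 g.2
  refine ⟨(ι.comp (alternatingGroup (Fin m)).subtype).codRestrict _ hmem, ?_, ?_⟩
  · intro a b hab
    have h1 : ι a = ι b := congrArg Subtype.val hab
    exact Subtype.ext (hι h1)
  · exact Subtype.ext hx

/-- Two elements of order 7 (7-cycles) of `A_n`: one is conjugate to the other or to its third power. -/
theorem seven_conj {n : ℕ} (hn : 7 ≤ n) {x y : ↥(alternatingGroup (Fin n))}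
    (hx : (x : Perm (Fin n)).cycleType = {7}) (hy : (y : Perm (Fin n)).cycleType = {7}) :
    ∃ g : ↥(alternatingGroup (Fin n)), g * x * g⁻¹ = y ∨ g * x * g⁻¹ = y ^ 3 := by
  have h1 : IsConj (x : Perm (Fin n)) (y : Perm (Fin n)) := by
    rw [Perm.isConj_iff_cycleType_eq, hx, hy]
  obtain ⟨τ, hτ⟩ := isConj_iff.1 h1
  rcases Int.units_eq_one_or (Perm.sign τ) with hs | hs
  · exact ⟨⟨τ, Perm.mem_alternatingGroup.2 hs⟩, Or.inl (Subtype.ext hτ)⟩
  · have hc : (y : Perm (Fin n)).cycleType = (finRotate 7).cycleType := by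
      rw [hy, cycleType_finRotate]
    obtain ⟨ι, -, hι, hg⟩ := exists_perm_emb hn (finRotate 7) (y : Perm (Fin n)) hc
    let π : Perm (Fin 7) := ⟨![0, 3, 6, 2, 5, 1, 4], ![0, 5, 3, 1, 6, 4, 2], by decide, by decide⟩
    have h2 : π * finRotate 7 * π⁻¹ = finRotate 7 ^ 3 := by decide
    have h3 : Perm.sign π = -1 := by decide
    refine ⟨⟨ι π * τ, Perm.mem_alternatingGroup.2 ?_⟩, Or.inr (Subtype.ext ?_)⟩
    · rw [Perm.sign_mul, (hg π).2, h3, hs]
      rfl
    · show ι π * τ * (x : Perm (Fin n)) * (ι π * τ)⁻¹ = (y : Perm (Fin n)) ^ 3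
      have e : ι π * τ * (x : Perm (Fin n)) * (ι π * τ)⁻¹ = ι π * (τ * x * τ⁻¹) * (ι π)⁻¹ := by group
      rw [e, hτ, ← hι, ← map_inv, ← map_mul, ← map_mul, h2, map_pow]

end Cfsg.Agent.H177.F4
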