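import Cfsg.Agent.H952.F4.Scott
import Cfsg.Agent.H952.F4.Count
import Cfsg.Agent.H177.F4.Emb
import Cfsg.Agent.S1054
import Cfsg.Agent.S1062

/-!
# S5926, part Z5: tools (Scott's lemma for `A_n`, `7 ≤ n ≤ 10`, on 26-dimensional modules, explicit elements)
-/

set_option autoImplicit false
set_option maxRecDepth 10000

namespace Cfsg.Agent.H177.F4

open Cfsg Cfsg.Lie Module Equiv
open Cfsg.Agent.ChevalleyStructure Cfsg.Agent.ChevalleyStructure.Elts
open Cfsg.Agent.ChevalleyStructure.E6Min.Tables Cfsg.Agent.ChevalleyStructure.E6Min.Basic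
open Cfsg.Agent.H952.F4

universe u

section ev
variable {K V G : Type*} [Field K] [AddCommGroup V] [Module K V] [Group G]

theorem ev_conj (ρ : Representation K G V) (g x : G) (μ : K) : ev (ρ (g * x * g⁻¹)) μ = ev (ρ x) μ := by
  let e : V ≃ₗ[K] V := LinearEquiv.ofLinearMap (ρ g) (ρ g⁻¹)
    (by rw [← Module.End.mul_eq_comp, ← map_mul, mul_inv_cancel, map_one]; rfl)
    (by rw [← Module.End.mul_eq_comp, ← map_mul, inv_mul_cancel, map_one]; rfl)
  have h : Module.End.eigenspace (ρ (g * x * g⁻¹)) μ =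
      (Module.End.eigenspace (ρ x) μ).map e.toLinearMap := by
    ext v
    rw [Submodule.mem_map, Module.End.mem_eigenspace_iff]
    constructor
    · intro hv
      refine ⟨ρ g⁻¹ v, ?_, ?_⟩
      · rw [Module.End.mem_eigenspace_iff]
        have h1 := congrArg (ρ g⁻¹) hv
        rw [map_smul, ← Module.End.mul_apply, ← map_mul] at h1
        rw [← Module.End.mul_apply, ← map_mul]
        have h2 : g⁻¹ * (g * x * g⁻¹) = x * g⁻¹ := by group
        rwa [h2] at h1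
      · show ρ g (ρ g⁻¹ v) = v
        rw [← Module.End.mul_apply, ← map_mul, mul_inv_cancel, map_one]
        rfl
    · rintro ⟨w, hw, rfl⟩
      rw [Module.End.mem_eigenspace_iff] at hw
      show ρ (g * x * g⁻¹) (ρ g w) = μ • ρ g w
      rw [← Module.End.mul_apply, ← map_mul]
      have h2 : g * x * g⁻¹ * g = g * x := by group
      rw [h2, map_mul, Module.End.mul_apply, hw, map_smul]
  unfold ev
  rw [h]
  exact LinearEquiv.finrank_map_eq e _

theorem ev_pow (ρ : Representation K G V) {x : G} {k l : ℕ} (h : (x ^ k) ^ l = x) :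
    ev (ρ (x ^ k)) 1 = ev (ρ x) 1 := by
  have key : ∀ (y : G) (k : ℕ) (v : V), ρ y v = v → ρ (y ^ k) v = v := by
    intro y k v hv
    induction k with
    | zero => rw [pow_zero, map_one]; rfl
    | succ k ih => rw [pow_succ, map_mul, Module.End.mul_apply, hv, ih]
  have h2 : Module.End.eigenspace (ρ (x ^ k)) 1 = Module.End.eigenspace (ρ x) 1 := by
    ext v
    rw [Module.End.mem_eigenspace_iff, Module.End.mem_eigenspace_iff, one_smul]
    constructor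
    · intro hv
      have := key (x ^ k) l v hv
      rwa [h] at this
    · exact key x k v
  unfold ev
  rw [h2]

theorem ev_map {A : Type*} [Group A] (φ : A →* G) (ρ : Representation K G V) (g x : A) (μ : K) :
    ev (ρ (φ (g * x * g⁻¹))) μ = ev (ρ (φ x)) μ := by
  have : φ (g * x * g⁻¹) = φ g * φ x * (φ g)⁻¹ := by rw [map_mul, map_mul, map_inv]
  rw [this, ev_conj]

end ev

/-- the numerical condition -/
theorem card_bound {F : Type u} [Field F] [Finite F] {H : Subgroup ↥(chevF4.group F)} {n : ℕ}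
    {φ : ↥(alternatingGroup (Fin n)) →* ↥(chevF4.group F)} (hM : MaxAlt H n φ) (hn : 7 ≤ n) (hn' : n ≤ 10) {d : ℕ}
    (hd : d = 26) :
    Nat.card ↥H * Nat.card F ^ d < Nat.card ↥(chevF4.group F) * (Nat.card F - 1) := by
  have : Fintype F := Fintype.ofFinite F
  have hq : 2 ≤ Nat.card F := by
    rw [Nat.card_eq_fintype_card]
    exact Fintype.one_lt_card
  have h1 := Cfsg.Agent.S1062.result (F := F) (q := Nat.card F) (by rw [Nat.card_eq_fintype_card])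
  have h2 : Nat.card ↥H ≤ 3628800 := by
    refine hM.card.trans ?_
    rw [if_neg (by omega)]
    exact (Nat.factorial_le hn').trans (by decide)
  generalize Nat.card F = q at h1 hq ⊢
  generalize Nat.card ↥H = c at h2 ⊢
  have hk : ∀ k, q ^ k ≤ q ^ (k + 1) - 1 := by
    intro k
    have e1 : q ^ k * 2 ≤ q ^ (k + 1) := by
      rw [pow_succ]
      exact Nat.mul_le_mul_left _ hq
    have e2 : 1 ≤ q ^ k := Nat.one_le_pow _ _ (by omega)
    omega
  have h3 : q ^ 48 ≤ Nat.card ↥(chevF4.group F) := by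
    rw [h1]
    calc q ^ 48 = q ^ 24 * q ^ 1 * q ^ 5 * q ^ 7 * q ^ 11 := by ring
      _ ≤ _ := by
        refine Nat.mul_le_mul (Nat.mul_le_mul (Nat.mul_le_mul (Nat.mul_le_mul le_rfl ?_) ?_) ?_) ?_
        · exact hk 1
        · exact hk 5
        · exact hk 7
        · exact hk 11
  rw [hd]
  have h4 : 4194304 ≤ q ^ 22 := by
    calc 4194304 = 2 ^ 22 := by norm_num
      _ ≤ q ^ 22 := Nat.pow_le_pow_left hq 22
  calc c * q ^ 26 ≤ 3628800 * q ^ 26 := Nat.mul_le_mul_right _ h2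
    _ < q ^ 22 * q ^ 26 := Nat.mul_lt_mul_of_pos_right (by omega) (pow_pos (by omega) _)
    _ = q ^ 48 := by ring
    _ ≤ Nat.card ↥(chevF4.group F) := h3
    _ ≤ Nat.card ↥(chevF4.group F) * (q - 1) := Nat.le_mul_of_pos_right _ (by omega)

/-- Scott's lemma for `A_n` on a module of dimension 26 -/
theorem scott_le {F V : Type u} [Field F] [Finite F] [AddCommGroup V] [Module F V]
    {H : Subgroup ↥(chevF4.group F)} {n : ℕ}
    {φ : ↥(alternatingGroup (Fin n)) →* ↥(chevF4.group F)} (hM : MaxAlt H n φ) (hn : 7 ≤ n) (hn' : n ≤ 10)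
    (ρ : Representation F ↥(chevF4.group F) V) (hf : FiniteDimensional F V) (hd : finrank F V = 26)
    (hform : ∃ B : V →ₗ[F] V →ₗ[F] F, (∀ v, (∀ w, B v w = 0) → v = 0) ∧ (∀ g v w, B (ρ g v) (ρ g w) = B v w))
    (hinv : ρ.invariants = ⊥) {x y : ↥(alternatingGroup (Fin n))} (hgen : Subgroup.closure {x, y} = ⊤) :
    ev (ρ (φ x)) 1 + ev (ρ (φ y)) 1 + ev (ρ (φ (x * y))) 1 ≤ 26 := by
  have : Fintype F := Fintype.ofFinite F
  have hs : IsSimpleGroup ↥(chevF4.group F) := (Cfsg.Agent.S1054.result chevF4 (by simp)).1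
  have h1 := MaxA.no_fixed ρ hinv hM (by omega) (card_bound hM hn hn' hd)
  obtain ⟨B, hB, hB'⟩ := hform
  have h2 := Scott.scott_form (MonoidHom.comp ρ φ : Representation F ↥(alternatingGroup (Fin n)) V) hgen B hB
    (fun g v w => hB' (φ g) v w)
  rw [h1, finrank_bot, hd] at h2
  exact h2

theorem ev_seven {K V G : Type*} [Field K] [AddCommGroup V] [Module K V] [Group G] {n : ℕ} (hn : 7 ≤ n)
    (φ : ↥(alternatingGroup (Fin n)) →* G) (ρ : Representation K G V) {x y : ↥(alternatingGroup (Fin n))}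
    (hx : (x : Perm (Fin n)).cycleType = {7}) (hy : (y : Perm (Fin n)).cycleType = {7}) :
    ev (ρ (φ x)) 1 = ev (ρ (φ y)) 1 := by
  obtain ⟨g, hg | hg⟩ := seven_conj hn hx hy
  · rw [← hg, ev_map]
  · have h7 : y ^ 7 = 1 := by
      have h1 : orderOf (y : Perm (Fin n)) = 7 := by
        rw [← Perm.lcm_cycleType, hy, Multiset.lcm_singleton, normalize_eq]
      have h2 := pow_orderOf_eq_one (y : Perm (Fin n))
      rw [h1] at h2
      exact Subtype.ext h2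
    have h3 : (φ y ^ 3) ^ 5 = φ y := by
      rw [← pow_mul, ← map_pow]
      have : y ^ (3 * 5) = y := by
        calc y ^ (3 * 5) = (y ^ 7) ^ 2 * y := by rw [← pow_mul, ← pow_succ]
          _ = y := by rw [h7, one_pow, one_mul]
      rw [this]
    rw [← ev_pow ρ h3, ← map_pow φ, ← hg, ev_map]

/-- the order of an element -/
theorem pow_of_type {n k : ℕ} {x : ↥(alternatingGroup (Fin n))} {c : Multiset ℕ}
    (hx : (x : Perm (Fin n)).cycleType = c) (hc : c.lcm ∣ k) : x ^ k = 1 := by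
  have h1 : orderOf (x : Perm (Fin n)) ∣ k := by
    rw [← Perm.lcm_cycleType, hx]
    exact hc
  exact Subtype.ext (orderOf_dvd_iff_pow_eq_one.1 h1)

theorem ne_one_of_type {n : ℕ} {x : ↥(alternatingGroup (Fin n))} {c : Multiset ℕ}
    (hx : (x : Perm (Fin n)).cycleType = c) (hc : c ≠ 0) : x ≠ 1 := by
  rintro rfl
  apply hc
  rw [← hx]
  exact Perm.cycleType_one

/-- rationality of elements of order 5 and 7 -/
theorem rational {m n : ℕ} (hmn : m ≤ n) (g₀ π : ↥(alternatingGroup (Fin m))) (h : π * g₀ * π⁻¹ = g₀ ^ 2)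
    {x : ↥(alternatingGroup (Fin n))} (hx : (x : Perm (Fin n)).cycleType = (g₀ : Perm (Fin m)).cycleType) :
    ∃ g, g * x * g⁻¹ = x ^ 2 := by
  obtain ⟨ι, -, hι⟩ := exists_emb hmn g₀ x hx
  exact ⟨ι π, by rw [← hι, ← map_inv, ← map_mul, ← map_mul, h, map_pow]⟩

/-- a 5-cycle of `A₇` -/
def g5 : Perm (Fin 7) := ⟨![1, 2, 3, 4, 0, 5, 6], ![4, 0, 1, 2, 3, 5, 6], by decide, by decide⟩
def p5 : Perm (Fin 7) := ⟨![0, 2, 4, 1, 3, 6, 5], ![0, 3, 1, 4, 2, 6, 5], by decide, by decide⟩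
/-- a 7-cycle of `A₇` -/
def g7 : Perm (Fin 7) := ⟨![1, 2, 3, 4, 5, 6, 0], ![6, 0, 1, 2, 3, 4, 5], by decide, by decide⟩
def p7 : Perm (Fin 7) := ⟨![0, 2, 4, 6, 1, 3, 5], ![0, 4, 1, 5, 2, 6, 3], by decide, by decide⟩
/-- an element of type `5²` of `A₁₀` -/
def g55 : Perm (Fin 10) := ⟨![1, 2, 3, 4, 0, 6, 7, 8, 9, 5], ![4, 0, 1, 2, 3, 9, 5, 6, 7, 8], by decide, by decide⟩
def p55 : Perm (Fin 10) := ⟨![0, 2, 4, 1, 3, 5, 7, 9, 6, 8], ![0, 3, 1, 4, 2, 5, 8, 6, 9, 7], by decide, by decide⟩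

theorem g5_mem : g5 ∈ alternatingGroup (Fin 7) := by rw [Perm.mem_alternatingGroup]; decide +kernel
theorem p5_mem : p5 ∈ alternatingGroup (Fin 7) := by rw [Perm.mem_alternatingGroup]; decide +kernel
theorem g7_mem : g7 ∈ alternatingGroup (Fin 7) := by rw [Perm.mem_alternatingGroup]; decide +kernel
theorem p7_mem : p7 ∈ alternatingGroup (Fin 7) := by rw [Perm.mem_alternatingGroup]; decide +kernel
theorem g55_mem : g55 ∈ alternatingGroup (Fin 10) := by rw [Perm.mem_alternatingGroup]; decide +kernel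
theorem p55_mem : p55 ∈ alternatingGroup (Fin 10) := by rw [Perm.mem_alternatingGroup]; decide +kernel

theorem rat_five {n : ℕ} (hn : 7 ≤ n) {x : ↥(alternatingGroup (Fin n))}
    (hx : (x : Perm (Fin n)).cycleType = {5}) : ∃ g, g * x * g⁻¹ = x ^ 2 :=
  rational hn ⟨g5, g5_mem⟩ ⟨p5, p5_mem⟩ (Subtype.ext (by decide +kernel : p5 * g5 * p5⁻¹ = g5 ^ 2))
    (hx.trans (by decide +kernel : ({5} : Multiset ℕ) = g5.cycleType))

theorem rat_seven {n : ℕ} (hn : 7 ≤ n) {x : ↥(alternatingGroup (Fin n))}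
    (hx : (x : Perm (Fin n)).cycleType = {7}) : ∃ g, g * x * g⁻¹ = x ^ 2 :=
  rational hn ⟨g7, g7_mem⟩ ⟨p7, p7_mem⟩ (Subtype.ext (by decide +kernel : p7 * g7 * p7⁻¹ = g7 ^ 2))
    (hx.trans (by decide +kernel : ({7} : Multiset ℕ) = g7.cycleType))

theorem rat_55 {n : ℕ} (hn : 10 ≤ n) {x : ↥(alternatingGroup (Fin n))}
    (hx : (x : Perm (Fin n)).cycleType = {5, 5}) : ∃ g, g * x * g⁻¹ = x ^ 2 :=
  rational hn ⟨g55, g55_mem⟩ ⟨p55, p55_mem⟩ (Subtype.ext (by decide +kernel : p55 * g55 * p55⁻¹ = g55 ^ 2))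
    (hx.trans (by decide +kernel : ({5, 5} : Multiset ℕ) = g55.cycleType))

/-- there are elements of order 7 -/
theorem exists_seven {n : ℕ} (hn : 7 ≤ n) :
    ∃ x : ↥(alternatingGroup (Fin n)), (x : Perm (Fin n)).cycleType = {7} := by
  let y : Perm (Fin n) := Perm.extendDomainHom (fst hn) g7
  have hy : y.cycleType = {7} := by
    show (Perm.extendDomainHom (fst hn) g7).cycleType = {7}
    rw [Perm.extendDomainHom_apply, Perm.cycleType_extendDomain]
    decide +kernel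
  refine ⟨⟨y, Perm.mem_alternatingGroup.2 ?_⟩, hy⟩
  show Perm.sign (Perm.extendDomainHom (fst hn) g7) = 1
  rw [Perm.extendDomainHom_apply, Perm.sign_extendDomain]
  exact Perm.mem_alternatingGroup.1 g7_mem

/-! ### Characteristic 5 -/

section A7

/-- elements of `A₇` -/
def qa : ↥(alternatingGroup (Fin 7)) := ⟨swap 0 1 * swap 2 3, by rw [Perm.mem_alternatingGroup]; decide +kernel⟩
def qb : ↥(alternatingGroup (Fin 7)) := ⟨swap 0 2 * swap 1 3, by rw [Perm.mem_alternatingGroup]; decide +kernel⟩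
def qt : ↥(alternatingGroup (Fin 7)) := ⟨swap 1 2 * swap 2 3, by rw [Perm.mem_alternatingGroup]; decide +kernel⟩
def qb' : ↥(alternatingGroup (Fin 7)) := ⟨swap 2 3 * swap 4 5, by rw [Perm.mem_alternatingGroup]; decide +kernel⟩
def qz : ↥(alternatingGroup (Fin 7)) := ⟨swap 0 2 * swap 2 4, by rw [Perm.mem_alternatingGroup]; decide +kernel⟩
def qw : ↥(alternatingGroup (Fin 7)) := ⟨swap 1 3 * swap 3 5, by rw [Perm.mem_alternatingGroup]; decide +kernel⟩
def qs : ↥(alternatingGroup (Fin 7)) := ⟨swap 2 4 * swap 3 5, by rw [Perm.mem_alternatingGroup]; decide +kernel⟩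
def qg : ↥(alternatingGroup (Fin 7)) :=
  ⟨swap 3 5 * (swap 0 1 * swap 2 3 * swap 4 5), by rw [Perm.mem_alternatingGroup]; decide +kernel⟩
def qr : ↥(alternatingGroup (Fin 7)) := ⟨swap 0 1 * swap 3 4, by rw [Perm.mem_alternatingGroup]; decide +kernel⟩
def qr' : ↥(alternatingGroup (Fin 7)) := ⟨swap 2 3 * swap 3 5, by rw [Perm.mem_alternatingGroup]; decide +kernel⟩
def qm : ↥(alternatingGroup (Fin 7)) :=
  ⟨⟨![2, 4, 3, 5, 1, 0, 6], ![5, 4, 0, 2, 1, 3, 6], by decide, by decide⟩,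
    by rw [Perm.mem_alternatingGroup]; decide +kernel⟩

theorem rel7 : (qa * qa = 1 ∧ qb * qb = 1 ∧ qb' * qb' = 1 ∧ qa * qb = qb * qa ∧ qa * qb' = qb' * qa) ∧
    (qt ^ 3 = 1 ∧ qt ≠ 1 ∧ qt * qa * qt⁻¹ = qb ∧ qt * qb * qt⁻¹ = qa * qb) ∧
    ((qz * qw) ^ 3 = 1 ∧ qz * qw ≠ 1 ∧ (qz * qw) * qa * (qz * qw)⁻¹ = qb' ∧
      (qz * qw) * qb' * (qz * qw)⁻¹ = qa * qb') ∧
    (qz ^ 3 = 1 ∧ qw ^ 3 = 1 ∧ qz * qw = qw * qz ∧ qs * qs = 1 ∧ qs * qz * qs⁻¹ = qz⁻¹ ∧ qs * qw * qs⁻¹ = qw⁻¹) ∧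
    (qg * (qz * qw) * qg⁻¹ = qz * qw⁻¹ ∧ qr * qt * qr⁻¹ = qz ∧ qr' * qt * qr'⁻¹ = qw ∧ qm * qa * qm⁻¹ = qs) ∧
    qa ≠ 1 := by
  refine ⟨⟨?_, ?_, ?_, ?_, ?_⟩, ⟨?_, ?_, ?_, ?_⟩, ⟨?_, ?_, ?_, ?_⟩, ⟨?_, ?_, ?_, ?_, ?_, ?_⟩, ⟨?_, ?_, ?_, ?_⟩, ?_⟩ <;>
    decide +kernel

theorem qa_type : (qa : Perm (Fin 7)).cycleType = {2, 2} := by decide +kernel

/-- elements of `A₈` -/
def ta : ↥(alternatingGroup (Fin 8)) :=
  ⟨swap 0 1 * swap 2 3 * swap 4 5 * swap 6 7, by rw [Perm.mem_alternatingGroup]; decide +kernel⟩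
def tb : ↥(alternatingGroup (Fin 8)) :=
  ⟨swap 0 2 * swap 1 3 * swap 4 6 * swap 5 7, by rw [Perm.mem_alternatingGroup]; decide +kernel⟩
def tc : ↥(alternatingGroup (Fin 8)) :=
  ⟨swap 0 4 * swap 1 5 * swap 2 6 * swap 3 7, by rw [Perm.mem_alternatingGroup]; decide +kernel⟩
def tu : ↥(alternatingGroup (Fin 8)) :=
  ⟨⟨![0, 2, 4, 6, 3, 1, 7, 5], ![0, 5, 1, 4, 2, 7, 3, 6], by decide, by decide⟩,
    by rw [Perm.mem_alternatingGroup]; decide +kernel⟩

theorem rel8 : (ta * ta = 1 ∧ tb * tb = 1 ∧ tc * tc = 1 ∧ ta * tb = tb * ta ∧ ta * tc = tc * ta ∧ tb * tc = tc * tb) ∧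
    (tu * ta * tu⁻¹ = tb ∧ tu * tb * tu⁻¹ = tc ∧ tu * tc * tu⁻¹ = ta * tb ∧ tu * (ta * tb) * tu⁻¹ = tb * tc ∧
      tu * (tb * tc) * tu⁻¹ = ta * tb * tc ∧ tu * (ta * tb * tc) * tu⁻¹ = ta * tc) ∧ ta ≠ 1 := by
  decide +kernel

theorem ta_type : (ta : Perm (Fin 8)).cycleType = {2, 2, 2, 2} := by decide +kernel

end A7

theorem finrank_J (K : Type*) [Field K] : finrank K (I27 → K) = 27 := by
  rw [finrank_fintype_fun_eq_card]
  rfl

end Cfsg.Agent.H177.F4
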